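import Mathlib.RingTheory.Smooth.Basic
import Mathlib.RingTheory.HopfAlgebra.Basic
import Mathlib.RingTheory.Bialgebra.Basic
import Mathlib.RingTheory.FiniteType

/-!
# The quotient of a smooth Hopf algebra by primitive elements with independent differentials

Let `C` be a commutative Hopf algebra (a bialgebra is enough) which is formally smooth over a
field `k`, and let `S` be a space of primitive elements which meets the square of the
augmentation ideal only in `0`.  Then `C ⧸ (S)` is formally smooth over `k`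
(`K520.PrimQuot.formallySmooth_quotient`).

Proof.  Choose a linear `T : C → S` with `T 1 = 0`, `T = 0` on the square of the augmentation
ideal and `T = id` on `S`.  Then `D c = ∑ c₁ • [T c₂]` is a derivation of `C` into `I/I²`,
`I = (S)`, and it is the identity on `I`; this splits `I/I² → C/I ⊗ Ω`.
-/

set_option autoImplicit false

universe u v w

open TensorProduct

namespace K520.PrimQuot

variable {k : Type u} [Field k] {C : Type v} [CommRing C] [Bialgebra k C]

/-- the projection `T` -/
theorem exists_proj (S : Submodule k C)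
    (hS : ∀ f ∈ S, CoalgebraStruct.comul (R := k) f = f ⊗ₜ[k] 1 + 1 ⊗ₜ[k] f)
    (hS2 : ∀ f ∈ S, f ∈ RingHom.ker (Bialgebra.counitAlgHom k C) ^ 2 → f = 0) :
    ∃ T : C →ₗ[k] S, T 1 = 0 ∧
      (∀ f ∈ RingHom.ker (Bialgebra.counitAlgHom k C) ^ 2, T f = 0) ∧ ∀ f : S, T f = f := by
  classical
  let m : Ideal C := RingHom.ker (Bialgebra.counitAlgHom k C)
  let N : Submodule k C := (Submodule.span k {(1 : C)}) ⊔ (m ^ 2).restrictScalars k
  have hmem : ∀ f ∈ S, Coalgebra.counit (R := k) f = 0 := by
    intro f hf
    have h1 := Coalgebra.rTensor_counit_comul (R := k) f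
    rw [hS f hf] at h1
    simp only [map_add, LinearMap.rTensor_tmul, Bialgebra.counit_one] at h1
    have h2 := congrArg (TensorProduct.lid k C) h1
    simp only [map_add, TensorProduct.lid_tmul, one_smul] at h2
    have h3 : (Coalgebra.counit (R := k) f) • (1 : C) = 0 := by
      simpa using h2
    have h4 := congrArg (Coalgebra.counit (R := k)) h3
    simpa using h4
  have hdisj : ∀ f ∈ S, f ∈ N → f = 0 := by
    intro f hf hfN
    obtain ⟨x, hx, y, hy, hxy⟩ := Submodule.mem_sup.1 hfN
    obtain ⟨c, rfl⟩ := Submodule.mem_span_singleton.1 hx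
    have hy' : y ∈ m := Ideal.pow_le_self (two_ne_zero) hy
    have hy0 : Coalgebra.counit (R := k) y = 0 := hy'
    have h0 := hmem f hf
    rw [← hxy, map_add, hy0, add_zero, map_smul, Bialgebra.counit_one, smul_eq_mul, mul_one] at h0
    rw [h0, zero_smul, zero_add] at hxy
    exact hS2 f hf (hxy ▸ hy)
  let g : S →ₗ[k] C ⧸ N := N.mkQ.comp S.subtype
  have hg : LinearMap.ker g = ⊥ := by
    rw [LinearMap.ker_eq_bot']
    intro f hf
    have : (f : C) ∈ N := by
      have := hf
      simpa [g, Submodule.Quotient.mk_eq_zero] using this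
    exact Subtype.ext (hdisj f f.2 this)
  obtain ⟨t, ht⟩ := LinearMap.exists_leftInverse_of_injective g hg
  refine ⟨t.comp N.mkQ, ?_, ?_, ?_⟩
  · have : (1 : C) ∈ N := Submodule.mem_sup_left (Submodule.mem_span_singleton_self _)
    rw [LinearMap.comp_apply, Submodule.mkQ_apply, (Submodule.Quotient.mk_eq_zero N).2 this,
      map_zero]
  · intro f hf
    have : f ∈ N := Submodule.mem_sup_right hf
    rw [LinearMap.comp_apply, Submodule.mkQ_apply, (Submodule.Quotient.mk_eq_zero N).2 this,
      map_zero]
  · intro f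
    exact LinearMap.congr_fun ht f

variable {S : Submodule k C} (T : C →ₗ[k] S)

/-- `T` is an `ε`-derivation -/
theorem T_mul (h1 : T 1 = 0)
    (h2 : ∀ f ∈ RingHom.ker (Bialgebra.counitAlgHom k C) ^ 2, T f = 0) (x y : C) :
    T (x * y) = Coalgebra.counit (R := k) x • T y + Coalgebra.counit (R := k) y • T x := by
  set a : k := Coalgebra.counit (R := k) x with ha
  set b : k := Coalgebra.counit (R := k) y with hb
  have hx : x - algebraMap k C a ∈ RingHom.ker (Bialgebra.counitAlgHom k C) := by
    rw [RingHom.mem_ker, map_sub, AlgHom.commutes]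
    simp [ha]
  have hy : y - algebraMap k C b ∈ RingHom.ker (Bialgebra.counitAlgHom k C) := by
    rw [RingHom.mem_ker, map_sub, AlgHom.commutes]
    simp [hb]
  have h := h2 _ (by rw [pow_two]; exact Ideal.mul_mem_mul hx hy)
  have e : (x - algebraMap k C a) * (y - algebraMap k C b)
      = x * y - a • y - b • x + (a * b) • 1 := by
    simp only [Algebra.smul_def, map_mul]
    ring
  rw [e, map_add, map_sub, map_sub, map_smul, map_smul, map_smul, h1, smul_zero, add_zero] at h
  rw [sub_sub, sub_eq_zero] at h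
  exact h

section deriv

variable {M : Type w} [AddCommGroup M] [Module C M] [Module k M] [IsScalarTower k C M]
  (j : S →ₗ[k] M)

/-- `x ⊗ y ↦ x • j (T y)` -/
noncomputable def phi : C ⊗[k] C →ₗ[k] M :=
  TensorProduct.lift
    (LinearMap.compl₂ ((Algebra.lsmul k k M).toLinearMap : C →ₗ[k] M →ₗ[k] M) (j.comp T))

@[simp]
theorem phi_tmul (x y : C) : phi T j (x ⊗ₜ[k] y) = x • j (T y) := rfl

/-- `id ⊗ ε` -/
noncomputable def rho : C ⊗[k] C →ₗ[k] C :=
  (TensorProduct.rid k C).toLinearMap.comp
    (LinearMap.lTensor C (Coalgebra.counit (R := k) (A := C)))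

@[simp]
theorem rho_tmul (x y : C) : rho (k := k) (x ⊗ₜ[k] y) = Coalgebra.counit (R := k) y • x := by
  simp [rho]

theorem rho_comul (x : C) : rho (k := k) (CoalgebraStruct.comul (R := k) x) = x := by
  have := Coalgebra.lTensor_counit_comul (R := k) x
  rw [rho, LinearMap.comp_apply, this]
  simp

theorem phi_mul (h1 : T 1 = 0)
    (h2 : ∀ f ∈ RingHom.ker (Bialgebra.counitAlgHom k C) ^ 2, T f = 0) (z w : C ⊗[k] C) :
    phi T j (z * w) = rho (k := k) z • phi T j w + rho (k := k) w • phi T j z := by
  induction z using TensorProduct.induction_on with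
  | zero => simp
  | add z z' hz hz' =>
    rw [add_mul, map_add, hz, hz', map_add, map_add]
    simp only [add_smul, smul_add]
    abel
  | tmul x y =>
    induction w using TensorProduct.induction_on with
    | zero => simp
    | add z z' hz hz' =>
      rw [mul_add, map_add, hz, hz', map_add, map_add]
      simp only [add_smul, smul_add]
      abel
    | tmul x' y' =>
      rw [Algebra.TensorProduct.tmul_mul_tmul, phi_tmul, phi_tmul, phi_tmul, rho_tmul, rho_tmul,
        T_mul T h1 h2, map_add, map_smul, map_smul, smul_add]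
      congr 1
      · rw [smul_algebra_smul_comm, mul_smul, smul_assoc]
      · rw [smul_algebra_smul_comm, mul_comm, mul_smul, smul_assoc]

/-- the derivation `D c = ∑ c₁ • j (T c₂)` -/
noncomputable def der (h1 : T 1 = 0)
    (h2 : ∀ f ∈ RingHom.ker (Bialgebra.counitAlgHom k C) ^ 2, T f = 0) :
    Derivation k C M :=
  Derivation.mk' ((phi T j).comp (CoalgebraStruct.comul (R := k) (A := C))) (by
    intro a b
    rw [LinearMap.comp_apply, LinearMap.comp_apply, LinearMap.comp_apply, Bialgebra.comul_mul,
      phi_mul T j h1 h2, rho_comul, rho_comul])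

theorem der_apply (h1 : T 1 = 0)
    (h2 : ∀ f ∈ RingHom.ker (Bialgebra.counitAlgHom k C) ^ 2, T f = 0) (a : C) :
    der T j h1 h2 a = phi T j (CoalgebraStruct.comul (R := k) a) := rfl

theorem der_of_prim (h1 : T 1 = 0)
    (h2 : ∀ f ∈ RingHom.ker (Bialgebra.counitAlgHom k C) ^ 2, T f = 0) (a : C)
    (ha : CoalgebraStruct.comul (R := k) a = a ⊗ₜ[k] 1 + 1 ⊗ₜ[k] a) :
    der T j h1 h2 a = j (T a) := by
  rw [der_apply, ha, map_add, phi_tmul, phi_tmul, h1, map_zero, smul_zero, zero_add, one_smul]

end deriv

/-- **A formally smooth bialgebra over a field modulo primitive elements with independent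
differentials is formally smooth.** -/
theorem formallySmooth_quotient' [Algebra.FormallySmooth k C] (S : Submodule k C)
    (hS : ∀ f ∈ S, CoalgebraStruct.comul (R := k) f = f ⊗ₜ[k] 1 + 1 ⊗ₜ[k] f)
    (hS2 : ∀ f ∈ S, f ∈ RingHom.ker (Bialgebra.counitAlgHom k C) ^ 2 → f = 0) :
    Algebra.FormallySmooth k (C ⧸ Ideal.span (S : Set C)) := by
  classical
  obtain ⟨T, h1, h2, h3⟩ := exists_proj S hS hS2
  let I : Ideal C := Ideal.span (S : Set C)
  let J : Ideal C := RingHom.ker (algebraMap C (C ⧸ Ideal.span (S : Set C)))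
  have hJI : J = I := Ideal.mk_ker
  have hSJ : ∀ f ∈ S, f ∈ J := fun f hf => hJI ▸ Ideal.subset_span hf
  have hsurj : Function.Surjective (algebraMap C (C ⧸ Ideal.span (S : Set C))) :=
    Ideal.Quotient.mk_surjective
  let j : S →ₗ[k] J.Cotangent :=
    { toFun := fun f => J.toCotangent ⟨(f : C), hSJ f f.2⟩
      map_add' := fun a b => by rw [← map_add]; rfl
      map_smul' := fun c a => by
        have e : (⟨((c • a : S) : C), hSJ _ (c • a : S).2⟩ : J)
            = (algebraMap k C c) • (⟨(a : C), hSJ a a.2⟩ : J) :=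
          Subtype.ext (Algebra.smul_def c (a : C))
        rw [e, map_smul, algebraMap_smul]
        rfl }
  let D : Derivation k C J.Cotangent := der T j h1 h2
  -- `J` kills `J/J²`
  have hkill : ∀ a ∈ J, ∀ x : J.Cotangent, a • x = 0 := by
    intro a ha x
    obtain ⟨y, rfl⟩ := J.toCotangent_surjective x
    rw [← map_smul, Ideal.toCotangent_eq_zero]
    rw [pow_two]
    exact Ideal.mul_mem_mul ha y.2
  -- `D` is the identity on `J`
  have hD : ∀ x : J, D (x : C) = J.toCotangent x := by
    intro x
    have hx : (x : C) ∈ I := hJI ▸ x.2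
    have key : ∀ (y : C) (hy : y ∈ I) , D y = J.toCotangent ⟨y, hJI ▸ hy⟩ := by
      intro y hy
      refine Submodule.span_induction (p := fun y (hy : y ∈ Submodule.span C (S : Set C)) =>
        D y = J.toCotangent ⟨y, hJI ▸ hy⟩) ?_ ?_ ?_ ?_ hy
      · intro f hf
        change der T j h1 h2 f = _
        rw [der_of_prim T j h1 h2 f (hS f hf)]
        have := h3 ⟨f, hf⟩
        rw [show T f = ⟨f, hf⟩ from this]
        rfl
      · rw [map_zero]
        symm
        rw [Ideal.toCotangent_eq_zero]
        exact Ideal.zero_mem _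
      · intro a b ha hb ea eb
        rw [map_add, ea, eb, ← map_add]
        rfl
      · intro c a ha ea
        have e : D (c * a) = c • J.toCotangent ⟨a, hJI ▸ ha⟩ := by
          rw [Derivation.leibniz, hkill a (hJI ▸ ha), add_zero, ea]
        rw [← map_smul] at e
        exact e
    exact key x hx
  let D' : Ω[C⁄k] →ₗ[C] J.Cotangent := D.liftKaehlerDifferential
  let L : (C ⧸ Ideal.span (S : Set C)) →ₗ[C] Ω[C⁄k] →ₗ[C] J.Cotangent :=
    Submodule.liftQ (Ideal.span (S : Set C)) (LinearMap.toSpanSingleton C _ D') (by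
      intro a ha
      rw [LinearMap.mem_ker, LinearMap.toSpanSingleton_apply]
      ext x
      exact hkill a (hJI ▸ ha) _)
  refine (Algebra.FormallySmooth.iff_split_injection hsurj).2 ⟨TensorProduct.lift L, ?_⟩
  apply LinearMap.ext
  intro x
  obtain ⟨y, rfl⟩ := J.toCotangent_surjective x
  rw [LinearMap.comp_apply, KaehlerDifferential.kerCotangentToTensor_toCotangent,
    TensorProduct.lift.tmul, LinearMap.id_apply]
  have hL : L 1 = D' := by
    change (LinearMap.toSpanSingleton C _ D') 1 = D'
    rw [LinearMap.toSpanSingleton_apply, one_smul]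
  rw [hL]
  change D.liftKaehlerDifferential _ = _
  rw [Derivation.liftKaehlerDifferential_comp_D, hD]

theorem formallySmooth_quotient (k : Type u) [Field k]
    (C : Type u) [CommRing C] [HopfAlgebra k C] [Algebra.FiniteType k C] [Algebra.FormallySmooth k C]
    (S : Submodule k C) (hS : ∀ f ∈ S, CoalgebraStruct.comul (R := k) f = f ⊗ₜ[k] 1 + 1 ⊗ₜ[k] f)
    (hS2 : ∀ f ∈ S, f ∈ RingHom.ker (Bialgebra.counitAlgHom k C) ^ 2 → f = 0) :
    Algebra.FormallySmooth k (C ⧸ Ideal.span (S : Set C)) :=
  formallySmooth_quotient' S hS hS2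

end K520.PrimQuot
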